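import Mathlib

/-!
A subset of `(ZMod p)^k`, `p ≥ 5`, preserved only by the identity automorphism.
-/

set_option autoImplicit false

namespace H89.ColThree

variable {p k : ℕ}

/-- The standard generators. -/
def ev (p : ℕ) {k : ℕ} (i : Fin k) : Fin k → ZMod p := Pi.single i 1

/-- Generators, sums along the path, and the double of the first generator. -/
def oddSet (p k : ℕ) : Set (Fin k → ZMod p) :=
  {a | (∃ i : Fin k, a = ev p i) ∨ (∃ i j : Fin k, (j : ℕ) = i + 1 ∧ a = ev p i + ev p j) ∨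
    ∃ z : Fin k, (z : ℕ) = 0 ∧ a = ev p z + ev p z}

theorem addEquiv_fix_of_ev [Fact p.Prime] (σ : (Fin k → ZMod p) ≃+ (Fin k → ZMod p))
    (h : ∀ i, σ (ev p i) = ev p i) (a : Fin k → ZMod p) : σ a = a := by
  have hs : ∀ i, (Pi.single i (a i) : Fin k → ZMod p) = (a i).val • ev p i := fun i => by
    rw [ev, ← Pi.single_smul, nsmul_eq_mul, mul_one, ZMod.natCast_zmod_val]
  conv_lhs => rw [← Finset.univ_sum_single a]
  rw [map_sum]
  conv_rhs => rw [← Finset.univ_sum_single a]
  exact Finset.sum_congr rfl fun i _ => by rw [hs, map_nsmul, h]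

theorem oddSet_rigid [hP : Fact p.Prime] (hp : 5 ≤ p) :
    (0 : Fin k → ZMod p) ∉ oddSet p k ∧
    ∀ σ : (Fin k → ZMod p) ≃+ (Fin k → ZMod p), (∀ a, σ a ∈ oddSet p k ↔ a ∈ oddSet p k) →
      ∀ a, σ a = a := by
  classical
  have hne : ∀ m : ℕ, 0 < m → m < 5 → (m : ZMod p) ≠ 0 := fun m h1 h2 h => by
    have := Nat.le_of_dvd h1 ((ZMod.natCast_eq_zero_iff m p).1 h)
    omega
  have n1 : (1 : ZMod p) ≠ 0 := one_ne_zero
  have n2 : (2 : ZMod p) ≠ 0 := by exact_mod_cast hne 2 (by norm_num) (by norm_num)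
  have n3 : (3 : ZMod p) ≠ 0 := by exact_mod_cast hne 3 (by norm_num) (by norm_num)
  let w : (Fin k → ZMod p) →+ ZMod p :=
    { toFun := fun a => ∑ i, a i
      map_zero' := by simp
      map_add' := fun a b => by simp [Finset.sum_add_distrib] }
  have hwe : ∀ i, w (ev p i) = 1 := fun i => by
    show ∑ j, (Pi.single i (1 : ZMod p) : Fin k → ZMod p) j = 1
    simp
  have hw12 : ∀ a ∈ oddSet p k, ((∃ i, a = ev p i) ∧ w a = 1) ∨ w a = 2 := by
    rintro a (⟨i, rfl⟩ | ⟨i, j, -, rfl⟩ | ⟨z, -, rfl⟩)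
    · exact Or.inl ⟨⟨i, rfl⟩, hwe i⟩
    · exact Or.inr (by rw [map_add, hwe, hwe]; norm_num)
    · exact Or.inr (by rw [map_add, hwe]; norm_num)
  have hev : ∀ i l : Fin k, ev p i l = if l = i then 1 else 0 := fun i l => Pi.single_apply i 1 l
  have hinj : Function.Injective (ev p (k := k)) := fun i j h => by
    by_contra hij
    have := congrFun h i
    rw [hev, hev, if_pos rfl, if_neg hij] at this
    exact n1 this
  -- sums of two distinct generators
  have hpair : ∀ a b c d : Fin k, a ≠ b → ev p a + ev p b = ev p c + ev p d →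
      (a = c ∧ b = d) ∨ (a = d ∧ b = c) := by
    intro a b c d hab h
    have h1 := congrFun h a
    simp only [Pi.add_apply, hev, if_neg hab, add_zero] at h1
    by_cases hc : a = c
    · subst hc
      exact Or.inl ⟨rfl, hinj (add_left_cancel h)⟩
    · by_cases hd : a = d
      · subst hd
        rw [add_comm (ev p c)] at h
        exact Or.inr ⟨rfl, hinj (add_left_cancel h)⟩
      · rw [if_neg hc, if_neg hd, add_zero] at h1
        exact absurd h1 n1
  refine ⟨fun h0 => ?_, fun σ hσ => addEquiv_fix_of_ev σ ?_⟩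
  · rcases hw12 0 h0 with ⟨-, h⟩ | h
    · exact n1 (h.symm.trans (map_zero w))
    · exact n2 (h.symm.trans (map_zero w))
  -- the generators are the elements with a partner
  have hA : ∀ x ∈ oddSet p k, (∃ y ∈ oddSet p k, x + y ∈ oddSet p k) ↔ ∃ i, x = ev p i := by
    intro x hx
    constructor
    · rintro ⟨y, hy, hxy⟩
      rcases hw12 x hx with ⟨hi, -⟩ | hx2
      · exact hi
      exfalso
      have hs := map_add w x y
      rcases hw12 _ hxy with ⟨-, hz⟩ | hz <;> rcases hw12 y hy with ⟨-, hy'⟩ | hy' <;>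
        rw [hz, hx2, hy'] at hs
      · exact n2 (by linear_combination -hs)
      · exact n3 (by linear_combination -hs)
      · exact n1 (by linear_combination -hs)
      · exact n2 (by linear_combination -hs)
    · rintro ⟨i, rfl⟩
      by_cases hi : (i : ℕ) = 0
      · exact ⟨ev p i, Or.inl ⟨i, rfl⟩, Or.inr (Or.inr ⟨i, hi, rfl⟩)⟩
      · let j : Fin k := ⟨i - 1, by omega⟩
        exact ⟨ev p j, Or.inl ⟨j, rfl⟩,
          Or.inr (Or.inl ⟨j, i, by simp [j]; omega, add_comm _ _⟩)⟩
  have hrange : ∀ i, ∃ q, σ (ev p i) = ev p q := fun i => by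
    obtain ⟨y, hy, hxy⟩ := (hA _ (Or.inl ⟨i, rfl⟩)).2 ⟨i, rfl⟩
    exact (hA _ ((hσ _).2 (Or.inl ⟨i, rfl⟩))).1
      ⟨σ y, (hσ _).2 hy, by rw [← map_add]; exact (hσ _).2 hxy⟩
  have hzero : ∀ i : Fin k, (i : ℕ) = 0 → σ (ev p i) = ev p i := by
    intro i hi
    obtain ⟨q, hq⟩ := hrange i
    have h : ev p q + ev p q ∈ oddSet p k := by
      rw [← hq, ← map_add]; exact (hσ _).2 (Or.inr (Or.inr ⟨i, hi, rfl⟩))
    rw [hq]
    rcases h with ⟨l, hl⟩ | ⟨a, b, hab, hl⟩ | ⟨z, hz, hl⟩
    · have := congrArg w hl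
      rw [map_add, hwe, hwe] at this
      exact absurd (by linear_combination this) n1
    · have hne' : a ≠ b := fun h => by rw [h] at hab; omega
      rcases hpair a b q q hne' hl.symm with ⟨h1, h2⟩ | ⟨h1, h2⟩ <;>
        exact absurd (h1.trans h2.symm) hne'
    · by_cases hqz : q = z
      · rw [hqz, show z = i from Fin.ext (hz.trans hi.symm)]
      · have := congrFun hl q
        simp only [Pi.add_apply, hev, reduceIte, if_neg hqz, add_zero] at this
        exact absurd (by linear_combination this) n2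
  intro i
  suffices hall : ∀ n : ℕ, ∀ i : Fin k, (i : ℕ) ≤ n → σ (ev p i) = ev p i from hall i i le_rfl
  intro n
  induction n with
  | zero => exact fun i hi => hzero i (by omega)
  | succ n ih =>
    intro i hi
    rcases Nat.lt_or_ge i.1 (n + 1) with h | h
    · exact ih i (by omega)
    let j : Fin k := ⟨n, by omega⟩
    obtain ⟨q, hq⟩ := hrange i
    have hji : σ (ev p j + ev p i) ∈ oddSet p k :=
      (hσ _).2 (Or.inr (Or.inl ⟨j, i, by simp [j]; omega, rfl⟩))
    rw [map_add, ih j (by simp [j]), hq] at hji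
    have hjq : j ≠ q := fun hjq => by
      rw [← hjq, ← ih j (by simp [j])] at hq
      have := congrArg Fin.val (hinj (σ.injective hq))
      simp [j] at this
      omega
    rw [hq]
    rcases hji with ⟨l, hl⟩ | ⟨a, b, hab, hl⟩ | ⟨z, -, hl⟩
    · have := congrArg w hl
      rw [map_add, hwe, hwe, hwe] at this
      exact absurd (by linear_combination this) n1
    · rcases hpair j q a b hjq hl with ⟨h1, h2⟩ | ⟨h1, h2⟩
      · congr 1
        refine Fin.ext ?_
        rw [← h1, ← h2] at hab
        simp [j] at hab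
        omega
      · exfalso
        rw [← h1, ← h2] at hab
        simp [j] at hab
        rw [← ih q (by omega)] at hq
        have := congrArg Fin.val (hinj (σ.injective hq))
        omega
    · rcases hpair j q z z hjq hl with ⟨h1, h2⟩ | ⟨h1, h2⟩ <;>
        exact absurd (h1.trans h2.symm) hjq

end H89.ColThree
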