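import Mathlib

/-!
Subsets with trivial stabiliser in vector spaces over the field of two elements: explicit ones in
dimensions five to seven, a count from dimension eight on, and the irreducible groups of order
prime to three in dimensions up to four.
-/

set_option autoImplicit false
set_option linter.unusedSectionVars false
set_option linter.style.haveILetI false

namespace H89.ColThree

open MulAction

/-- The binary digits of `m` as a vector. -/
def bits (k m : ℕ) : Fin k → ZMod 2 := fun i => if m.testBit i then 1 else 0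

/-- The number of partners of `a` inside `L`. -/
def deg2 (L : List ℕ) (a : ℕ) : ℕ := L.countP fun b => L.contains (a ^^^ b)

/-- An invariant of a member of `L`. -/
def code2 (L : List ℕ) (a : ℕ) : ℕ :=
  deg2 L a + 64 * ((L.filter fun b => L.contains (a ^^^ b)).map fun b => deg2 L b * deg2 L b).sum

/-- The certificate that `L` is rigid. -/
def Cert (k : ℕ) (L : List ℕ) : Prop :=
  L.Nodup ∧ 0 ∉ L ∧ (∀ a ∈ L, a < 2 ^ k) ∧
    ∀ i < k, 2 ^ i ∈ L ∧ ∀ t ∈ L, code2 L t = code2 L (2 ^ i) → t = 2 ^ i

theorem bits_xor (k a b : ℕ) : bits k (a ^^^ b) = bits k a + bits k b := by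
  funext i
  simp only [bits, Pi.add_apply, Nat.testBit_xor]
  cases a.testBit i <;> cases b.testBit i <;> decide

theorem bits_inj {k a b : ℕ} (ha : a < 2 ^ k) (hb : b < 2 ^ k) (h : bits k a = bits k b) :
    a = b := by
  refine Nat.eq_of_testBit_eq fun i => ?_
  rcases Nat.lt_or_ge i k with hi | hi
  · have := congrFun h ⟨i, hi⟩
    simp only [bits] at this
    cases ha' : a.testBit i <;> cases hb' : b.testBit i <;> simp [ha', hb'] at this ⊢
  · rw [Nat.testBit_lt_two_pow (ha.trans_le (Nat.pow_le_pow_right (by norm_num) hi)),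
      Nat.testBit_lt_two_pow (hb.trans_le (Nat.pow_le_pow_right (by norm_num) hi))]

theorem bits_two_pow (k : ℕ) (i : Fin k) : bits k (2 ^ (i : ℕ)) = Pi.single i 1 := by
  funext j
  simp only [bits, Nat.testBit_two_pow, Pi.single_apply]
  by_cases h : j = i
  · simp [h]
  · simp [h]
    exact fun e => h (Fin.ext e.symm)

theorem rigid_of_cert {k : ℕ} {L : List ℕ} (hL : Cert k L) :
    ∃ S : Set (Fin k → ZMod 2), (0 : Fin k → ZMod 2) ∉ S ∧
      ∀ σ : (Fin k → ZMod 2) ≃+ (Fin k → ZMod 2), (∀ a, σ a ∈ S ↔ a ∈ S) → ∀ a, σ a = a := by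
  classical
  obtain ⟨hnd, h0, hlt, huniq⟩ := hL
  have hbij : Function.Bijective fun m : Fin (2 ^ k) => bits k m := by
    refine (Fintype.bijective_iff_injective_and_card _).2
      ⟨fun a b h => Fin.ext (bits_inj a.2 b.2 h), by simp⟩
  refine ⟨{v | ∃ a ∈ L, bits k a = v}, ?_, fun σ hσ => ?_⟩
  · rintro ⟨a, ha, h⟩
    have : a = 0 := bits_inj (hlt a ha) (Nat.two_pow_pos k)
      (h.trans (by funext i; simp [bits]))
    exact h0 (this ▸ ha)
  let e := Equiv.ofBijective _ hbij
  let τ : ℕ → ℕ := fun m => (e.symm (σ (bits k m)) : ℕ)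
  have hτlt : ∀ m, τ m < 2 ^ k := fun m => (e.symm _).2
  have hτ : ∀ m, bits k (τ m) = σ (bits k m) := fun m => e.apply_symm_apply _
  have hτxor : ∀ a b, τ (a ^^^ b) = τ a ^^^ τ b := fun a b =>
    bits_inj (hτlt _) (Nat.xor_lt_two_pow (hτlt a) (hτlt b))
      (by rw [hτ, bits_xor, bits_xor, hτ, hτ, map_add])
  have hτinj : ∀ a b, a < 2 ^ k → b < 2 ^ k → τ a = τ b → a = b := fun a b ha hb h =>
    bits_inj ha hb (σ.injective (by rw [← hτ, ← hτ, h]))
  have hmem : ∀ a, a < 2 ^ k → (τ a ∈ L ↔ a ∈ L) := by
    intro a ha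
    have h := hσ (bits k a)
    rw [← hτ] at h
    refine ⟨fun hl => ?_, fun hl => ?_⟩
    · obtain ⟨b, hb, he⟩ := h.1 ⟨τ a, hl, rfl⟩
      exact bits_inj (hlt b hb) ha he ▸ hb
    · obtain ⟨b, hb, he⟩ := h.2 ⟨a, hl, rfl⟩
      exact bits_inj (hlt b hb) (hτlt a) he ▸ hb
  have hperm : (L.map τ).Perm L := by
    refine ((List.Nodup.map_on (fun a ha b hb => hτinj a b (hlt a ha) (hlt b hb)) hnd).subperm
      fun x hx => ?_).perm_of_length_le (by simp)
    obtain ⟨a, ha, rfl⟩ := List.mem_map.1 hx
    exact (hmem a (hlt a ha)).2 ha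
  have hc : ∀ a ∈ L, ∀ b ∈ L, L.contains (τ a ^^^ τ b) = L.contains (a ^^^ b) := by
    intro a ha b hb
    rw [← hτxor, Bool.eq_iff_iff]
    simp only [List.contains_iff_mem]
    exact hmem _ (Nat.xor_lt_two_pow (hlt a ha) (hlt b hb))
  have hdeg : ∀ a ∈ L, deg2 L (τ a) = deg2 L a := by
    intro a ha
    rw [deg2, ← hperm.countP_eq, List.countP_map]
    exact List.countP_congr fun b hb => by simp only [Function.comp_apply, hc a ha b hb]
  have hcode : ∀ a ∈ L, code2 L (τ a) = code2 L a := by
    intro a ha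
    have h1 : (((L.map τ).filter fun b => L.contains (τ a ^^^ b)).map fun b =>
        deg2 L b * deg2 L b).sum = ((L.filter fun b => L.contains (a ^^^ b)).map fun b =>
        deg2 L b * deg2 L b).sum := by
      rw [List.filter_map, List.map_map]
      have h2 : L.filter ((fun b => L.contains (τ a ^^^ b)) ∘ τ) =
          L.filter fun b => L.contains (a ^^^ b) :=
        List.filter_congr fun b hb => by simp only [Function.comp_apply, hc a ha b hb]
      rw [h2]
      exact congrArg List.sum (List.map_congr_left fun b hb => by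
        simp only [Function.comp_apply, hdeg b (List.mem_of_mem_filter hb)])
    simp only [code2]
    rw [hdeg a ha, ← h1, ← ((hperm.filter _).map _).sum_eq]
  have hbasis : ∀ i : Fin k, σ (Pi.single i 1) = Pi.single i 1 := by
    intro i
    obtain ⟨hi, hu⟩ := huniq i i.2
    have := hu _ ((hmem _ (hlt _ hi)).2 hi) (hcode _ hi)
    rw [← bits_two_pow, ← hτ, this]
  intro a
  have hs : ∀ i, (Pi.single i (a i) : Fin k → ZMod 2) = (a i).val • Pi.single i (1 : ZMod 2) :=
    fun i => by rw [← Pi.single_smul, nsmul_eq_mul, mul_one, ZMod.natCast_zmod_val]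
  conv_lhs => rw [← Finset.univ_sum_single a]
  rw [map_sum]
  conv_rhs => rw [← Finset.univ_sum_single a]
  exact Finset.sum_congr rfl fun i _ => by rw [hs, map_nsmul, hbasis]

theorem cert_five : Cert 5 [1, 2, 4, 5, 8, 9, 10, 13, 16, 17, 18, 28] := by
  unfold Cert; decide +kernel

theorem cert_six : Cert 6 [1, 2, 4, 8, 9, 13, 16, 23, 26, 29, 32, 33, 44, 60] := by
  unfold Cert; decide +kernel

theorem cert_seven : Cert 7 [1, 2, 3, 4, 8, 9, 16, 32, 34, 35, 38, 42, 48, 49, 53, 64] := by
  unfold Cert; decide +kernel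

variable {H V : Type*} [Group H] [Finite H] [AddCommGroup V] [Finite V] [DistribMulAction H V]
  [FaithfulSMul H V]

/-- The fixed points of an element. -/
def fixSub (h : H) : AddSubgroup V where
  carrier := {a | h • a = a}
  zero_mem' := smul_zero h
  add_mem' {a b} ha hb := by
    show h • (a + b) = a + b
    rw [smul_add, show h • a = a from ha, show h • b = b from hb]
  neg_mem' {a} ha := by show h • -a = -a; rw [smul_neg, show h • a = a from ha]

/-- The count from dimension eight on. -/
theorem rigid_large {k : ℕ} (hk : 8 ≤ k) (hn : Nat.card V = 2 ^ k)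
    (hH : Nat.card H ≤ 2 ^ (k * k)) :
    ∃ S : Set V, (0 : V) ∉ S ∧ ∀ h : H, (∀ a, h • a ∈ S ↔ a ∈ S) → h = 1 := by
  classical
  suffices h : ∃ S : Set V, ∀ h : H, (∀ a, h • a ∈ S ↔ a ∈ S) → h = 1 by
    obtain ⟨S, hS⟩ := h
    refine ⟨S \ {0}, by simp, fun h hh => hS h fun a => ?_⟩
    by_cases ha : a = 0
    · rw [ha, smul_zero]
    · have hha : h • a ≠ 0 := fun e => ha (smul_left_cancel h (e.trans (smul_zero h).symm))
      simpa [ha, hha] using hh a
  haveI := Fintype.ofFinite V
  haveI := Fintype.ofFinite H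
  by_contra hno
  push Not at hno
  choose bad hbad hbad1 using hno
  have hQ : ∀ h : H, h ≠ 1 →
      (Finset.univ.filter fun S : Set V => bad S = h).card ≤ 2 ^ (3 * 2 ^ (k - 2)) := by
    intro h h1
    let Q := orbitRel.Quotient ↥(Subgroup.zpowers h) V
    haveI : Fintype Q := Fintype.ofFinite Q
    have hsame : ∀ a : V, (Quotient.mk'' (h • a) : Q) = Quotient.mk'' a := fun a =>
      Quotient.sound ⟨⟨h, Subgroup.mem_zpowers h⟩, rfl⟩
    have hF : 2 * Nat.card ↥(fixSub h : AddSubgroup V) ≤ 2 ^ k := by
      have hne : (fixSub h : AddSubgroup V) ≠ ⊤ := fun e => h1 (eq_of_smul_eq_smul fun a : V => by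
        rw [one_smul]
        exact (e ▸ AddSubgroup.mem_top a : a ∈ fixSub h))
      rw [← hn, ← (fixSub h : AddSubgroup V).card_mul_index, mul_comm]
      exact Nat.mul_le_mul_left _ (AddSubgroup.one_lt_index_of_ne_top hne)
    have hcard : 2 * Nat.card Q ≤ 2 ^ k + Nat.card ↥(fixSub h : AddSubgroup V) := by
      let Φ : Bool × Q → V ⊕ ↥(fixSub h : AddSubgroup V) := fun x =>
        if x.1 then
          (if hf : h • x.2.out = x.2.out then Sum.inr ⟨x.2.out, hf⟩ else Sum.inl (h • x.2.out))
        else Sum.inl x.2.out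
      have hΦ : Function.Injective Φ := by
        rintro ⟨b, q⟩ ⟨b', q'⟩ he
        have hq : ∀ u : Q, (Quotient.mk'' u.out : Q) = u := fun u => Quotient.out_eq u
        have hq' : ∀ u : Q, (Quotient.mk'' (h • u.out) : Q) = u := fun u => (hsame _).trans (hq u)
        cases b <;> cases b' <;> simp only [Φ, Bool.false_eq_true, if_false, if_true] at he
        · rw [← hq q, Sum.inl.inj he, hq]
        · split_ifs at he with hf
          have h2 := Sum.inl.inj he
          have : q = q' := by rw [← hq q, h2, hq']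
          subst this
          exact absurd h2.symm hf
        · split_ifs at he with hf
          have h2 := Sum.inl.inj he
          have : q = q' := by rw [← hq' q, h2, hq]
          subst this
          exact absurd h2 hf
        · split_ifs at he with hf hf'
          · have h3 : q.out = q'.out := congrArg Subtype.val (Sum.inr.inj he)
            rw [← hq q, h3, hq]
          · rw [← hq' q, Sum.inl.inj he, hq']
      have := Nat.card_le_card_of_injective Φ hΦ
      rw [Nat.card_prod, Nat.card_sum, hn] at this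
      simpa using this
    have hQk : Nat.card Q ≤ 3 * 2 ^ (k - 2) := by
      have hk2 : 2 ^ k = 4 * 2 ^ (k - 2) := by
        rw [show (4 : ℕ) = 2 ^ 2 from rfl, ← pow_add]; congr 1; omega
      omega
    calc _ ≤ (Finset.univ : Finset (Q → Bool)).card := by
          refine Finset.card_le_card_of_injOn (fun S q => decide (q.out ∈ S))
            (fun _ _ => by simp) ?_
          intro S hS T hT he
          simp only [Finset.coe_filter, Finset.mem_univ, true_and, Set.mem_setOf_eq] at hS hT
          have inv : ∀ U : Set V, bad U = h → ∀ a, a ∈ U ↔ (Quotient.mk'' a : Q).out ∈ U := by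
            intro U hU a
            let K : Subgroup H :=
              { carrier := {g | ∀ b, g • b ∈ U ↔ b ∈ U}
                one_mem' := fun b => by rw [one_smul]
                mul_mem' := fun {g g'} hg hg' b => by rw [mul_smul, hg, hg']
                inv_mem' := fun {g} hg b => by rw [← hg, smul_inv_smul] }
            have hK : Subgroup.zpowers h ≤ K := Subgroup.zpowers_le.2 (hU ▸ hbad U)
            obtain ⟨⟨g, hg⟩, hga⟩ : (Quotient.mk'' a : Q).out ∈ orbit ↥(Subgroup.zpowers h) a :=
              orbitRel_apply.1 (Quotient.exact (Quotient.out_eq _))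
            rw [← hga]
            exact ((hK hg) a).symm
          ext a
          rw [inv S hS a, inv T hT a]
          exact decide_eq_decide.1 (congrFun he _)
      _ = 2 ^ Nat.card Q := by simp [Nat.card_eq_fintype_card]
      _ ≤ _ := Nat.pow_le_pow_right (by norm_num) hQk
  have hone : (Finset.univ.filter fun S : Set V => bad S = 1).card = 0 := by
    simp [hbad1]
  have htot : 2 ^ (2 ^ k) ≤ (Fintype.card H - 1) * 2 ^ (3 * 2 ^ (k - 2)) := by
    have h2 : (Finset.univ : Finset (Set V)).card = 2 ^ (2 ^ k) := by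
      rw [Finset.card_univ, Fintype.card_set, ← Nat.card_eq_fintype_card, hn]
    rw [← h2, Finset.card_eq_sum_card_fiberwise (f := bad) (t := Finset.univ) (fun _ _ => by simp),
      ← Finset.add_sum_erase _ _ (Finset.mem_univ (1 : H)), hone, zero_add]
    refine (Finset.sum_le_card_nsmul _ _ _ fun h hh => hQ h (Finset.ne_of_mem_erase hh)).trans ?_
    rw [Finset.card_erase_of_mem (Finset.mem_univ _), Finset.card_univ, smul_eq_mul]
  have hsq : ∀ m, 8 ≤ m → m * m ≤ 2 ^ (m - 2) := by
    intro m hm
    induction m, hm using Nat.le_induction with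
    | base => norm_num
    | succ m hm ih =>
      have h2 : 2 ^ (m + 1 - 2) = 2 * 2 ^ (m - 2) := by
        rw [← pow_succ']; congr 1; omega
      nlinarith
  have hlt : (Fintype.card H - 1) * 2 ^ (3 * 2 ^ (k - 2)) < 2 ^ (2 ^ k) := by
    have hk2 : 2 ^ k = 2 ^ (k - 2) + 3 * 2 ^ (k - 2) := by
      have : 2 ^ k = 4 * 2 ^ (k - 2) := by
        rw [show (4 : ℕ) = 2 ^ 2 from rfl, ← pow_add]; congr 1; omega
      omega
    rw [hk2, pow_add 2 (2 ^ (k - 2))]
    refine Nat.mul_lt_mul_of_pos_right ?_ (Nat.two_pow_pos _)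
    have h3 : Fintype.card H ≤ 2 ^ 2 ^ (k - 2) := by
      rw [← Nat.card_eq_fintype_card]
      exact hH.trans (Nat.pow_le_pow_right (by norm_num) (hsq k hk))
    have : 0 < Fintype.card H := Fintype.card_pos
    omega
  omega

/-- Irreducible solvable groups of order prime to three in dimensions up to four. -/
theorem rigid_small [Nontrivial H] {T : Subgroup H} [T.Normal] [IsMulCommutative ↥T] {r : ℕ}
    [hr : Fact r.Prime] (hr5 : 5 ≤ r) (hT : ∀ t ∈ T, t ^ r = 1) {m : H} (hmT : m ∈ T) (hm : m ≠ 1)
    (hTfix : ∀ a : V, (∀ t ∈ T, t • a = a) → a = 0) {k : ℕ} (hk : k ≤ 4) (hn : Nat.card V = 2 ^ k)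
    (hexp : ∀ a : V, a + a = 0) :
    ∃ S : Set V, (0 : V) ∉ S ∧ ∀ h : H, (∀ a, h • a ∈ S ↔ a ∈ S) → h = 1 := by
  classical
  have hord : ∀ t ∈ T, t ≠ 1 → orderOf t = r := fun t ht h1 => orderOf_eq_prime (hT t ht) h1
  have hpg : ∀ t ∈ T, IsPGroup r ↥(Subgroup.zpowers t) := by
    rintro t ht ⟨g, hg⟩
    obtain ⟨i, rfl⟩ := Subgroup.mem_zpowers_iff.1 hg
    refine ⟨1, Subtype.ext ?_⟩
    show (t ^ i) ^ (r ^ 1) = (1 : H)
    rw [pow_one, ← zpow_natCast, zpow_comm, zpow_natCast, hT t ht, one_zpow]
  have hmod : ∀ t ∈ T, Nat.card V ≡ Nat.card ↥(fixSub t : AddSubgroup V) [MOD r] := by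
    intro t ht
    have h := (hpg t ht).card_modEq_card_fixedPoints (α := V)
    have he : fixedPoints ↥(Subgroup.zpowers t) V = {a : V | t • a = a} := by
      ext a
      refine ⟨fun ha => ha ⟨t, Subgroup.mem_zpowers t⟩, fun ha g => ?_⟩
      have : (g : H) ∈ stabilizer H a := Subgroup.zpowers_le.2 (mem_stabilizer_iff.2 ha) g.2
      exact this
    rw [he] at h
    exact h
  -- every non-trivial element of `T` fixes only `0`
  have hfpf : ∀ t ∈ T, t ≠ 1 → ∀ a : V, t • a = a → a = 0 := by
    intro t ht h1 a ha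
    by_contra ha0
    have hne : (fixSub t : AddSubgroup V) ≠ ⊤ := fun e => h1 (eq_of_smul_eq_smul fun b : V => by
      rw [one_smul]
      exact (e ▸ AddSubgroup.mem_top b : b ∈ fixSub t))
    obtain ⟨c, hck, hc⟩ := (Nat.dvd_prime_pow Nat.prime_two).1
      (hn ▸ (fixSub t : AddSubgroup V).card_addSubgroup_dvd_card)
    have hck' : c < k := lt_of_le_of_ne hck fun e => hne
      ((fixSub t : AddSubgroup V).eq_top_of_card_eq (by rw [hc, hn, e]))
    have hc1 : 1 ≤ c := by
      by_contra hc0
      rw [show c = 0 by omega, pow_zero, Nat.card_eq_one_iff_unique] at hc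
      exact ha0 (congrArg Subtype.val (hc.1.elim (⟨a, ha⟩ : ↥(fixSub t)) 0))
    have hd : r ∣ 2 ^ k - 2 ^ c := by
      rw [← hn, ← hc]
      exact (Nat.modEq_iff_dvd' (Nat.card_le_card_of_injective _ Subtype.val_injective)).1
        (hmod t ht).symm
    have hcc : c = 1 := by
      by_contra hc2
      have h2 : 2 ≤ c := by omega
      interval_cases k <;> interval_cases c <;> norm_num at hd <;>
        first
          | (have := Nat.le_of_dvd (by norm_num) hd; omega)
          | (have := (Nat.prime_dvd_prime_iff_eq hr.1 Nat.prime_two).1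
              (hr.1.dvd_of_dvd_pow (show r ∣ 2 ^ 3 from hd)); omega)
          | (have h12 : r ∣ 2 * 2 * 3 := hd
             rcases hr.1.dvd_mul.1 h12 with h | h
             · have := Nat.le_of_dvd (by norm_num) h; omega
             · have := Nat.le_of_dvd (by norm_num) h; omega)
    refine ha0 (hTfix a fun u hu => ?_)
    have hcomm : t * u = u * t := congrArg Subtype.val (mul_comm' (⟨t, ht⟩ : ↥T) ⟨u, hu⟩)
    have hmem : u • a ∈ fixSub (V := V) t := by
      show t • u • a = u • a
      rw [← mul_smul, hcomm, mul_smul, ha]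
    haveI := Fintype.ofFinite ↥(fixSub (V := V) t)
    have h2 : Fintype.card ↥(fixSub (V := V) t) = 2 := by
      rw [← Nat.card_eq_fintype_card, hc, hcc, pow_one]
    by_contra hne2
    have := Fintype.two_lt_card_iff.2 ⟨(0 : ↥(fixSub t)), ⟨a, ha⟩, ⟨u • a, hmem⟩,
      fun e => ha0 (congrArg Subtype.val e).symm,
      fun e => ha0 (smul_left_cancel u ((congrArg Subtype.val e).symm.trans (smul_zero u).symm)),
      fun e => hne2 (congrArg Subtype.val e).symm⟩
    omega
  have hF1 : Nat.card ↥(fixSub m : AddSubgroup V) = 1 :=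
    Nat.card_eq_one_iff_unique.2
      ⟨⟨fun a b => Subtype.ext ((hfpf m hmT hm a a.2).trans (hfpf m hmT hm b b.2).symm)⟩, ⟨0⟩⟩
  have hd : r ∣ 2 ^ k - 1 := by
    have := hmod m hmT
    rw [hn, hF1] at this
    exact (Nat.modEq_iff_dvd' (Nat.one_le_two_pow)).1 this.symm
  have hk34 : (k = 3 ∧ r = 7) ∨ (k = 4 ∧ r = 5) := by
    have hk0 : k ≠ 0 := by
      rintro rfl
      rw [pow_zero, Nat.card_eq_one_iff_unique] at hn
      exact hm (eq_of_smul_eq_smul fun a : V => by
        rw [one_smul]; exact hn.1.elim _ _)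
    obtain rfl | rfl | rfl | rfl : k = 1 ∨ k = 2 ∨ k = 3 ∨ k = 4 := by omega
    · have := Nat.le_of_dvd (by norm_num) hd
      norm_num at this
      omega
    · have := Nat.le_of_dvd (by norm_num) hd
      norm_num at this
      omega
    · exact Or.inl ⟨rfl, (Nat.prime_dvd_prime_iff_eq hr.1 (by norm_num)).1 hd⟩
    · refine Or.inr ⟨rfl, ?_⟩
      rcases hr.1.dvd_mul.1 (show r ∣ 3 * 5 from hd) with h | h
      · have := Nat.le_of_dvd (by norm_num) h; omega
      · exact (Nat.prime_dvd_prime_iff_eq hr.1 (by norm_num)).1 h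
  haveI : Nontrivial V := Finite.one_lt_card_iff_nontrivial.1 (by
    rw [hn]; exact Nat.one_lt_two_pow (by omega))
  obtain ⟨v, hv⟩ := exists_ne (0 : V)
  -- `T` is cyclic
  have hTinj : ∀ s ∈ T, ∀ t ∈ T, ∀ a : V, a ≠ 0 → s • a = t • a → s = t := by
    intro s hs t ht a ha h
    by_contra hst
    refine ha (hfpf (s⁻¹ * t) (T.mul_mem (T.inv_mem hs) ht) (fun e => hst (inv_mul_eq_one.1 e)) a ?_)
    rw [mul_smul, ← h, inv_smul_smul]
  have hTm : T = Subgroup.zpowers m := by
    refine (Subgroup.eq_of_le_of_card_ge (Subgroup.zpowers_le.2 hmT) ?_).symm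
    have hle : Nat.card ↥T ≤ 2 ^ k := hn ▸ Nat.card_le_card_of_injective (fun t : ↥T => (t : H) • v)
      (fun s t h => Subtype.ext (hTinj s s.2 t t.2 v hv h))
    obtain ⟨j, hj⟩ := IsPGroup.iff_card.1 (show IsPGroup r ↥T from fun t =>
      ⟨1, by rw [pow_one]; exact Subtype.ext (hT t t.2)⟩)
    rw [Nat.card_zpowers, hord m hmT hm, hj]
    have hj1 : j ≤ 1 := by
      by_contra hj2
      have h25 : r ^ 2 ≤ r ^ j := Nat.pow_le_pow_right (by omega) (by omega)
      rcases hk34 with ⟨rfl, rfl⟩ | ⟨rfl, rfl⟩ <;> norm_num at h25 hle <;> omega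
    exact (Nat.pow_le_pow_right (by omega) hj1).trans_eq (pow_one r)
  set O : Set V := orbit ↥(Subgroup.zpowers m) v with hO
  have hvO : v ∈ O := mem_orbit_self v
  have hmvO : m • v ∈ O := ⟨⟨m, Subgroup.mem_zpowers m⟩, rfl⟩
  have hO0 : (0 : V) ∉ O := by
    rintro ⟨g, hg⟩
    exact hv (smul_left_cancel (g : H) (hg.trans (smul_zero _).symm))
  have hOr : Nat.card O = r := by
    rw [← hord m hmT hm, ← Nat.card_zpowers]
    refine (Nat.card_eq_of_bijective (fun g : ↥(Subgroup.zpowers m) => (⟨g • v, mem_orbit v g⟩ : O))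
      ⟨fun g g' h => Subtype.ext (hTinj g (Subgroup.zpowers_le.2 hmT g.2) g'
        (Subgroup.zpowers_le.2 hmT g'.2) v hv (congrArg Subtype.val h)), ?_⟩).symm
    rintro ⟨a, g, rfl⟩
    exact ⟨g, rfl⟩
  -- the orbit generates
  have hspan : AddSubgroup.closure O = ⊤ := by
    set W := AddSubgroup.closure O with hW
    have hinv : ∀ g : ↥(Subgroup.zpowers m), ∀ a ∈ W, g • a ∈ W := fun g a ha => by
      induction ha using AddSubgroup.closure_induction with
      | mem x hx => exact AddSubgroup.subset_closure ((mem_orbit_of_mem_orbit g hx))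
      | zero => rw [show g • (0 : V) = 0 from smul_zero (g : H)]; exact W.zero_mem
      | add x y _ _ hx hy => rw [show g • (x + y) = g • x + g • y from smul_add (g : H) x y]
                             exact W.add_mem hx hy
      | neg x _ hx => rw [show g • -x = -(g • x) from smul_neg (g : H) x]; exact W.neg_mem hx
    let B : SubMulAction ↥(Subgroup.zpowers m) V := ⟨(W : Set V), fun g a ha => hinv g a ha⟩
    have hBmod := (hpg m hmT).card_modEq_card_fixedPoints (α := ↥B)
    have hfix : Nat.card (fixedPoints ↥(Subgroup.zpowers m) ↥B) = 1 := by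
      refine Nat.card_eq_one_iff_unique.2 ⟨⟨fun a b => ?_⟩,
        ⟨⟨⟨0, W.zero_mem⟩, fun g => Subtype.ext (smul_zero (g : H))⟩⟩⟩
      have hz : ∀ x : fixedPoints ↥(Subgroup.zpowers m) ↥B, (x.1 : V) = 0 := fun x =>
        hfpf m hmT hm _ (congrArg Subtype.val (x.2 ⟨m, Subgroup.mem_zpowers m⟩))
      exact Subtype.ext (Subtype.ext ((hz a).trans (hz b).symm))
    rw [hfix] at hBmod
    have hge : r + 1 ≤ Nat.card ↥W := by
      rw [← hOr]
      have := Nat.card_le_card_of_injective
        (Sum.elim (fun a : O => (⟨a, AddSubgroup.subset_closure a.2⟩ : ↥W)) fun _ : Unit => 0)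
        (by
          rintro (a | a) (b | b) h
          · exact congrArg Sum.inl (Subtype.ext (congrArg Subtype.val h :))
          · exact absurd (congrArg Subtype.val h :) fun e : (a : V) = 0 => hO0 (e ▸ a.2)
          · exact absurd (congrArg Subtype.val h :) fun e : (0 : V) = b => hO0 (e ▸ b.2)
          · rfl)
      simpa using this
    obtain ⟨c, hck, hc⟩ := (Nat.dvd_prime_pow Nat.prime_two).1
      (hn ▸ W.card_addSubgroup_dvd_card)
    refine W.eq_top_of_card_eq ?_
    rw [hn, hc]
    congr 1
    rw [hc] at hge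
    have hB : Nat.card ↥B = 2 ^ c := hc
    rw [hB] at hBmod
    rcases hk34 with ⟨rfl, rfl⟩ | ⟨rfl, rfl⟩ <;> interval_cases c <;>
      first
        | rfl
        | (norm_num at hge; done)
        | (exact absurd hBmod (by simp [Nat.ModEq]))
  have hconj : ∀ h : H, ∀ g ∈ Subgroup.zpowers m, h * g * h⁻¹ ∈ Subgroup.zpowers m := by
    intro h g hg
    rw [← hTm] at hg ⊢
    exact Subgroup.Normal.conj_mem ‹T.Normal› g hg h
  have hkey : ∀ h : H, h • v = v → h • m • v = m • v → h = 1 := by
    intro h h1 h2
    have hc : h * m * h⁻¹ = m := by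
      refine hTinj _ (Subgroup.Normal.conj_mem ‹T.Normal› m hmT h) m hmT v hv ?_
      rw [mul_smul, mul_smul, inv_smul_eq_iff.2 h1.symm, h2]
    refine eq_of_smul_eq_smul fun a : V => ?_
    rw [one_smul]
    have ha : a ∈ AddSubgroup.closure O := hspan ▸ AddSubgroup.mem_top a
    refine (AddSubgroup.closure_le (fixSub (V := V) h)).2 ?_ ha
    rintro _ ⟨⟨g, hg⟩, rfl⟩
    obtain ⟨i, rfl⟩ := Subgroup.mem_zpowers_iff.1 hg
    show h • m ^ i • v = m ^ i • v
    rw [← mul_smul, (show Commute h m from mul_inv_eq_iff_eq_mul.1 hc).zpow_right i, mul_smul, h1]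
  have hOmem : ∀ h : H, (h • v ∈ O ↔ h • m • v ∈ O) := by
    intro h
    have e : h • m • v = (⟨_, hconj h m (Subgroup.mem_zpowers m)⟩ : ↥(Subgroup.zpowers m)) • h • v := by
      show h • m • v = (h * m * h⁻¹) • h • v
      rw [← mul_smul, ← mul_smul]; congr 1; group
    rw [e]
    exact ⟨fun hh => mem_orbit_of_mem_orbit _ hh, fun hh => by
      have := mem_orbit_of_mem_orbit
        ((⟨_, hconj h m (Subgroup.mem_zpowers m)⟩ : ↥(Subgroup.zpowers m))⁻¹) hh
      rwa [inv_smul_smul] at this⟩
  have hmv : m • v ≠ v := fun e => hv (hfpf m hmT hm v e)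
  have huniq : ∀ h h' : H, h • v = m • v → h • m • v = v → h' • v = m • v → h' • m • v = v →
      h = h' := by
    intro h h' a b a' b'
    refine (inv_mul_eq_one.1 (hkey (h⁻¹ * h') ?_ ?_))
    · rw [mul_smul, a', inv_smul_eq_iff, a]
    · rw [mul_smul, b', inv_smul_eq_iff, b]
  rcases hk34 with ⟨rfl, rfl⟩ | ⟨rfl, rfl⟩
  · -- eight points
    refine ⟨{v, m • v}, fun h0 => ?_, fun h hh => ?_⟩
    · rcases h0 with e | e
      · exact hv e.symm
      · exact hO0 (Set.mem_singleton_iff.1 e ▸ hmvO)
    have h1 : h • v ∈ ({v, m • v} : Set V) := (hh v).2 (Or.inl rfl)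
    have h2 : h • m • v ∈ ({v, m • v} : Set V) := (hh (m • v)).2 (Or.inr rfl)
    rcases h1 with h1 | h1 <;> rcases h2 with h2 | h2
    · exact absurd (smul_left_cancel h (h2.trans h1.symm)) hmv
    · exact hkey h h1 h2
    · exfalso
      have hsq : h * h = 1 := hkey _ (by rw [mul_smul, h1, h2]) (by rw [mul_smul, h2, h1])
      have hinvm : h * m * h⁻¹ = m⁻¹ := by
        refine hTinj _ (Subgroup.Normal.conj_mem ‹T.Normal› m hmT h) _ (T.inv_mem hmT) (m • v)
          (fun e => hO0 (e ▸ hmvO)) ?_
        rw [inv_smul_smul, mul_smul, mul_smul, ← h1, inv_smul_smul]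
        exact h2
      have hcv : ∀ i : ℤ, h • m ^ i • v = m ^ (1 - i) • v := by
        intro i
        calc h • m ^ i • v = (h * m ^ i * h⁻¹) • h • v := by
              rw [← mul_smul, ← mul_smul]; congr 1; group
          _ = m ^ (1 - i) • v := by
              rw [← conj_zpow, hinvm, h1, ← mul_smul]
              congr 1
              rw [inv_zpow, ← zpow_neg, ← zpow_add_one]
              congr 1
              ring
      let d : V →+ V :=
        { toFun := fun a => a + h • a
          map_zero' := by simp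
          map_add' := fun a b => by simp only [smul_add]; abel }
      have hker : d.ker = fixSub h := by
        ext a
        show a + h • a = 0 ↔ h • a = a
        exact ⟨fun e => (neg_eq_of_add_eq_zero_right e).symm.trans
          (neg_eq_of_add_eq_zero_right (hexp a)), fun e => by rw [e]; exact hexp a⟩
      have hran : d.range ≤ fixSub h := by
        rintro _ ⟨a, rfl⟩
        show h • (a + h • a) = a + h • a
        rw [smul_add, ← mul_smul, hsq, one_smul, add_comm]
      have h8 : Nat.card ↥d.ker * Nat.card ↥d.range = 8 := by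
        rw [← AddSubgroup.index_ker, AddSubgroup.card_mul_index, hn]; norm_num
      have hrle := Nat.card_le_card_of_injective _ (AddSubgroup.inclusion_injective hran)
      rw [hker] at h8
      have h3' : 3 ≤ Nat.card ↥(fixSub h : AddSubgroup V) := by nlinarith
      haveI := Fintype.ofFinite ↥(fixSub (V := V) h)
      rw [Nat.card_eq_fintype_card] at h3'
      obtain ⟨x, y, z, hxy, hxz, hyz⟩ := Fintype.two_lt_card_iff.1 h3'
      have hall : ∀ a : ↥(fixSub (V := V) h), (a : V) = 0 ∨ (a : V) = (m ^ (4 : ℤ)) • v := by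
        intro a
        by_cases ha : (a : V) = 0
        · exact Or.inl ha
        right
        obtain ⟨⟨g, hg⟩, hga⟩ : (a : V) ∈ O := by
          by_contra hnot
          haveI := Fintype.ofFinite V
          have hsub : (O.toFinset ∪ {0, (a : V)}) ⊆ Finset.univ := Finset.subset_univ _
          have := Finset.card_le_card hsub
          rw [Finset.card_union_of_disjoint (by simp [hO0, hnot]), Set.toFinset_card,
            ← Nat.card_eq_fintype_card, hOr, Finset.card_pair (Ne.symm ha), Finset.card_univ,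
            ← Nat.card_eq_fintype_card, hn] at this
          norm_num at this
        obtain ⟨i, rfl⟩ := Subgroup.mem_zpowers_iff.1 hg
        rw [← hga]
        show m ^ i • v = m ^ (4 : ℤ) • v
        have hi : h • m ^ i • v = m ^ i • v := by
          have := a.2
          rw [show (a : V) = m ^ i • v from hga.symm] at this
          exact this
        rw [hcv] at hi
        have e := hTinj _ (T.zpow_mem hmT _) _ (T.zpow_mem hmT _) v hv hi
        congr 1
        rw [zpow_eq_zpow_iff_modEq, hord m hmT hm] at e ⊢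
        rw [Int.modEq_iff_dvd] at e ⊢
        omega
      rcases hall x with hx | hx <;> rcases hall y with hy | hy <;> rcases hall z with hz | hz <;>
        first
          | exact hxy (Subtype.ext (hx.trans hy.symm))
          | exact hxz (Subtype.ext (hx.trans hz.symm))
          | exact hyz (Subtype.ext (hy.trans hz.symm))
    · exact absurd (smul_left_cancel h (h2.trans h1.symm)) hmv
  · -- sixteen points
    obtain ⟨w, hw0, hwO, hwfix⟩ : ∃ w : V, w ≠ 0 ∧ w ∉ O ∧
        ∀ h : H, h ≠ 1 → h • v = m • v → h • m • v = v → h • w ≠ w := by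
      haveI := Fintype.ofFinite V
      by_cases hex : ∃ h : H, h ≠ 1 ∧ h • v = m • v ∧ h • m • v = v
      · obtain ⟨h, hh1, hhv, hhm⟩ := hex
        by_contra hno
        push Not at hno
        have hsub : (Finset.univ : Finset V) ⊆
            insert 0 O.toFinset ∪ Finset.univ.filter fun a => h • a = a := fun a _ => by
          by_cases ha : a = 0
          · simp [ha]
          by_cases haO : a ∈ O
          · simp [haO]
          obtain ⟨g, -, hg1, hg2, hg3⟩ := hno a ha haO
          simp [huniq h g hhv hhm hg1 hg2, hg3]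
        have h16 := Finset.card_le_card hsub
        have hF : (Finset.univ.filter fun a : V => h • a = a).card ≤ 8 := by
          have hne : (fixSub h : AddSubgroup V) ≠ ⊤ := fun e => hh1 (eq_of_smul_eq_smul fun b : V => by
            rw [one_smul]
            exact (e ▸ AddSubgroup.mem_top b : b ∈ fixSub h))
          have h2 := (fixSub h : AddSubgroup V).card_mul_index
          have h4 := AddSubgroup.one_lt_index_of_ne_top hne
          rw [hn] at h2
          have h5 : (Finset.univ.filter fun a : V => h • a = a).card =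
              Nat.card ↥(fixSub h : AddSubgroup V) := by
            rw [Nat.card_eq_fintype_card]
            exact (Fintype.card_subtype _).symm
          nlinarith
        have h6 : (insert 0 O.toFinset).card ≤ 6 := by
          refine (Finset.card_insert_le _ _).trans ?_
          rw [Set.toFinset_card, ← Nat.card_eq_fintype_card, hOr]
        have := Finset.card_union_le (insert 0 O.toFinset) (Finset.univ.filter fun a => h • a = a)
        rw [Finset.card_univ, ← Nat.card_eq_fintype_card, hn] at h16
        omega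
      · push Not at hex
        obtain ⟨w, -, hw⟩ : ∃ w ∈ (Finset.univ : Finset V), w ∉ insert 0 O.toFinset := by
          refine Finset.exists_mem_notMem_of_card_lt_card ((Finset.card_insert_le _ _).trans_lt ?_)
          rw [Set.toFinset_card, ← Nat.card_eq_fintype_card, hOr, Finset.card_univ,
            ← Nat.card_eq_fintype_card, hn]
          norm_num
        simp only [Finset.mem_insert, Set.mem_toFinset, not_or] at hw
        exact ⟨w, hw.1, hw.2, fun h a b c => absurd c (hex h a b)⟩
    refine ⟨{v, m • v, w}, ?_, fun h hh => ?_⟩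
    · rintro (e | e | e)
      · exact hv e.symm
      · exact hO0 (e ▸ hmvO)
      · exact hw0 (Set.mem_singleton_iff.1 e).symm
    have h1 : h • v ∈ ({v, m • v, w} : Set V) := (hh v).2 (Or.inl rfl)
    have h2 : h • m • v ∈ ({v, m • v, w} : Set V) := (hh (m • v)).2 (Or.inr (Or.inl rfl))
    have hne : h • v ≠ h • m • v := fun e => hmv (smul_left_cancel h e).symm
    simp only [Set.mem_insert_iff, Set.mem_singleton_iff] at h1 h2
    have hin : h • v = v ∨ h • v = m • v → h • m • v ≠ w := fun e e2 =>
      hwO (e2 ▸ (hOmem h).1 (by rcases e with e | e <;> rw [e] <;> assumption))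
    have hout : h • v = w → h • m • v ≠ v ∧ h • m • v ≠ m • v := fun e =>
      ⟨fun e2 => hwO (e ▸ (hOmem h).2 (by rw [e2]; exact hvO)),
       fun e2 => hwO (e ▸ (hOmem h).2 (by rw [e2]; exact hmvO))⟩
    rcases h1 with h1 | h1 | h1 <;> rcases h2 with h2 | h2 | h2
    all_goals first
      | exact absurd (h1.trans h2.symm) hne
      | exact hkey h h1 h2
      | exact absurd h2 (hin (Or.inl h1))
      | exact absurd h2 (hin (Or.inr h1))
      | exact absurd h2 (hout h1).1
      | exact absurd h2 (hout h1).2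
      | skip
    by_contra hh1
    have hwS : h • w ∈ ({v, m • v, w} : Set V) := (hh w).2 (Or.inr (Or.inr rfl))
    rcases hwS with e | e | e
    · exact hwO (smul_left_cancel h (h2.trans e.symm) ▸ hmvO)
    · exact hwO (smul_left_cancel h (h1.trans e.symm) ▸ hvO)
    · exact hwfix h hh1 h1 h2 (Set.mem_singleton_iff.1 e)

end H89.ColThree
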