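import Cfsg.Agent.H21.Base3.Colour
import Cfsg.Agent.H89.Base.RigidOdd
import Cfsg.Agent.H89.Base.RigidTwo

/-!
Three colours suffice for solvable permutation groups of order prime to three.
-/

set_option autoImplicit false
set_option linter.style.haveILetI false
set_option linter.unusedSectionVars false

namespace H89.ColThree

open MulAction
open H21.Base3 (HasCol hasCol_of_blocks exists_abelian_normal)

/-- An irreducible solvable group of order prime to three fixes some set only trivially. -/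
theorem exists_rigid {H V : Type} [Group H] [Finite H] [AddCommGroup V] [Finite V]
    [DistribMulAction H V] [FaithfulSMul H V] (hs : Group.IsSolvable H) (h3 : ¬ 3 ∣ Nat.card H)
    {p : ℕ} [Fact p.Prime] (hp3 : p ≠ 3) (hexp : ∀ v : V, p • v = 0)
    (hirr : ∀ W : AddSubgroup V, (∀ h : H, ∀ a ∈ W, h • a ∈ W) → W = ⊥ ∨ W = ⊤) :
    ∃ S : Set V, (0 : V) ∉ S ∧ ∀ h : H, (∀ a, h • a ∈ S ↔ a ∈ S) → h = 1 := by
  classical
  rcases subsingleton_or_nontrivial H with hH | hH
  · exact ⟨∅, by simp, fun h _ => Subsingleton.elim _ _⟩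
  obtain ⟨iM⟩ : Nonempty (Module (ZMod p) V) := ⟨AddCommGroup.zmodModule (n := p) hexp⟩
  haveI : Module.Finite (ZMod p) V := Module.Finite.of_finite
  let b := Module.finBasis (ZMod p) V
  set k := Module.finrank (ZMod p) V
  let e : V ≃+ (Fin k → ZMod p) := b.equivFun.toAddEquiv
  have hn : Nat.card V = p ^ k := by
    rw [Nat.card_congr e.toEquiv, Nat.card_fun, Nat.card_zmod, Nat.card_fin]
  -- from a rigid set of coordinate vectors
  have key : (∃ S : Set (Fin k → ZMod p), 0 ∉ S ∧
      ∀ σ : (Fin k → ZMod p) ≃+ (Fin k → ZMod p), (∀ a, σ a ∈ S ↔ a ∈ S) → ∀ a, σ a = a) →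
      ∃ S : Set V, (0 : V) ∉ S ∧ ∀ h : H, (∀ a, h • a ∈ S ↔ a ∈ S) → h = 1 := by
    rintro ⟨S, hS0, hS⟩
    refine ⟨e ⁻¹' S, fun h => hS0 (map_zero e ▸ h), fun h hh => eq_of_smul_eq_smul fun a : V => ?_⟩
    rw [one_smul]
    have := hS (e.symm.trans ((DistribMulAction.toAddEquiv V h).trans e)) (fun x => by
      have := hh (e.symm x)
      simp only [Set.mem_preimage, AddEquiv.apply_symm_apply] at this
      exact this) (e a)
    simp only [AddEquiv.trans_apply, AddEquiv.symm_apply_apply] at this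
    exact e.injective this
  have hp2 := (Fact.out : p.Prime).two_le
  by_cases hp : p = 2
  swap
  · refine key ⟨_, oddSet_rigid (k := k) ?_⟩
    have h4 : p ≠ 4 := fun h => absurd (h ▸ (Fact.out : p.Prime)) (by norm_num)
    omega
  subst hp
  obtain hk | hk | hk | hk | hk : k ≤ 4 ∨ k = 5 ∨ k = 6 ∨ k = 7 ∨ 8 ≤ k := by omega
  rotate_left
  · exact key (hk ▸ rigid_of_cert cert_five)
  · exact key (hk ▸ rigid_of_cert cert_six)
  · exact key (hk ▸ rigid_of_cert cert_seven)
  · refine rigid_large hk hn ?_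
    have hinj : Function.Injective fun (h : H) (i : Fin k) => h • b i := fun g g' hg =>
      eq_of_smul_eq_smul fun a : V => by
        have hle : ∀ u : V, u ∈ Submodule.span (ZMod 2) (Set.range b) → g • u = g' • u := by
          intro u hu
          induction hu using Submodule.span_induction with
          | mem x hx => obtain ⟨i, rfl⟩ := hx; exact congrFun hg i
          | zero => rw [smul_zero, smul_zero]
          | add x y _ _ hx hy => rw [smul_add, smul_add, hx, hy]
          | smul c x _ hx =>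
            rw [← ZMod.natCast_zmod_val c, Nat.cast_smul_eq_nsmul, smul_comm g, smul_comm g', hx]
        exact hle a (b.mem_span a)
    have := Nat.card_le_card_of_injective _ hinj
    rwa [Nat.card_fun, Nat.card_fin, hn, ← pow_mul] at this
  -- dimension at most four
  obtain ⟨A, hA, hA0, hAc⟩ := exists_abelian_normal hs
  haveI := hA
  haveI := hAc
  obtain ⟨r, hr, hrA⟩ := Nat.exists_prime_and_dvd (fun h : Nat.card ↥A = 1 => hA0 ((Subgroup.card_eq_one).1 h))
  haveI : Fact r.Prime := ⟨hr⟩
  let T : Subgroup H :=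
    { carrier := {a | a ∈ A ∧ a ^ r = 1}
      one_mem' := ⟨A.one_mem, one_pow r⟩
      mul_mem' := fun {x y} hx hy => ⟨A.mul_mem hx.1 hy.1, by
        have hc : Commute x y :=
          congrArg Subtype.val (mul_comm' (⟨x, hx.1⟩ : ↥A) ⟨y, hy.1⟩)
        rw [hc.mul_pow, hx.2, hy.2, one_mul]⟩
      inv_mem' := fun {x} hx => ⟨A.inv_mem hx.1, by rw [inv_pow, hx.2, inv_one]⟩ }
  haveI : T.Normal := ⟨fun x hx g => ⟨hA.conj_mem x hx.1 g, by rw [conj_pow, hx.2, mul_one, mul_inv_cancel]⟩⟩
  haveI : IsMulCommutative ↥T := ⟨⟨fun x y => Subtype.ext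
    (congrArg Subtype.val (mul_comm' (⟨(x : H), x.2.1⟩ : ↥A) ⟨y, y.2.1⟩) : _)⟩⟩
  obtain ⟨m₀, hm₀⟩ := exists_prime_orderOf_dvd_card' r hrA
  have hmord : orderOf (m₀ : H) = r := by rw [Subgroup.orderOf_coe]; exact hm₀
  have hm : (m₀ : H) ≠ 1 := fun h => hr.ne_one (hmord.symm.trans (by rw [h, orderOf_one]))
  have hmT : (m₀ : H) ∈ T := ⟨m₀.2, hmord ▸ pow_orderOf_eq_one _⟩
  let W : AddSubgroup V :=
    { carrier := {a | ∀ t ∈ T, t • a = a}
      zero_mem' := fun t _ => smul_zero t
      add_mem' := fun {x y} hx hy t ht => by rw [smul_add, hx t ht, hy t ht]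
      neg_mem' := fun {x} hx t ht => by rw [smul_neg, hx t ht] }
  have hW : W = ⊥ := (hirr W fun h a ha t ht => by
    have h1 := ha (h⁻¹ * t * h) (by
      simpa using (show T.Normal from inferInstance).conj_mem t ht h⁻¹)
    rw [mul_smul, mul_smul, inv_smul_eq_iff] at h1
    exact h1).resolve_right fun htop => hm (eq_of_smul_eq_smul fun a : V => by
      rw [one_smul]
      exact (show a ∈ W from htop ▸ AddSubgroup.mem_top a) _ hmT)
  have hTfix : ∀ a : V, (∀ t ∈ T, t • a = a) → a = 0 := fun a ha =>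
    AddSubgroup.mem_bot.1 (hW ▸ (show a ∈ W from ha))
  have hr3 : r ≠ 3 := fun h => h3 (h ▸ hrA.trans (Subgroup.card_subgroup_dvd_card A))
  have hr2 : r ≠ 2 := by
    rintro rfl
    have hpT : IsPGroup 2 ↥T := fun t => ⟨1, Subtype.ext (by simpa using t.2.2)⟩
    have hk0 : 0 < k := by
      by_contra h0
      rw [show k = 0 by omega, pow_zero, Nat.card_eq_one_iff_unique] at hn
      exact hm (eq_of_smul_eq_smul fun a : V => hn.1.elim _ _)
    obtain ⟨a, ha, ha0⟩ := hpT.exists_fixed_point_of_prime_dvd_card_of_fixed_point V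
      (hn ▸ dvd_pow_self 2 (by omega)) (a := 0) (fun t => smul_zero (t : H))
    exact ha0 (hTfix a fun t ht => ha ⟨t, ht⟩).symm
  have hr5 : 5 ≤ r := by
    have := hr.two_le
    have h4 : r ≠ 4 := fun h => absurd (h ▸ hr) (by norm_num)
    omega
  exact rigid_small hr5 (fun t (ht : t ∈ A ∧ t ^ r = 1) => ht.2) hmT hm hTfix hk hn
    (fun a => by rw [← two_nsmul]; exact hexp a)

/-- One distinguishing colouring gives three inequivalent ones. -/
theorem hasCol_three_of_one {G X : Type*} [Group G] [MulAction G X] [Finite G] [Nonempty X]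
    (h3 : ¬ 3 ∣ Nat.card G) (b : X → Fin 3)
    (hb : ∀ g : G, (∀ x, b (g • x) = b x) → ∀ x : X, g • x = x) : HasCol 3 G X := by
  refine ⟨fun i x => b x + i, fun i g h => hb g fun x => by simpa using h x, fun i j g h => ?_⟩
  have hd : ∀ x, b (g • x) = b x + (j - i) := fun x => by
    have h1 := h x
    simp only at h1
    rw [← add_sub_assoc, ← h1, add_sub_cancel_right]
  have h3d : ∀ d : Fin 3, d + d + d = 0 := by decide
  have hcube : ∀ x : X, g ^ 3 • x = x := hb (g ^ 3) fun x => by
    rw [pow_succ, pow_two, mul_smul, mul_smul, hd, hd, hd, add_assoc, add_assoc]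
    rw [show (j - i) + ((j - i) + (j - i)) = 0 by rw [← add_assoc]; exact h3d _, add_zero]
  have hcop : (orderOf g).Coprime 3 := ((Nat.prime_three.coprime_iff_not_dvd).2 fun h =>
    h3 (h.trans (orderOf_dvd_natCard g))).symm
  obtain ⟨m, hm⟩ := exists_pow_eq_self_of_coprime (n := 3) hcop.symm
  have hfix : ∀ x : X, g • x = x := fun x => by
    have : g ^ 3 ∈ stabilizer G x := hcube x
    have h2 := (stabilizer G x).pow_mem this m
    rw [hm] at h2
    exact h2
  have h4 := hd (Classical.arbitrary X)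
  rw [hfix, left_eq_add, sub_eq_zero] at h4
  exact h4.symm

/-- The affine case. -/
theorem hasCol_affine_three {P X : Type} [Group P] [MulAction P X] [Finite P] [Finite X]
    [Nonempty X] [Nontrivial P] [FaithfulSMul P X] (x₀ : X) (hPs : Group.IsSolvable P)
    (h3 : ¬ 3 ∣ Nat.card P)
    (hreg : ∀ N : Subgroup P, N.Normal → N ≠ ⊥ → IsMulCommutative ↥N →
      Function.Bijective fun a : ↥N => (a : P) • x₀) : HasCol 3 P X := by
  classical
  haveI := hPs
  obtain ⟨N, hN, hN0, hNc⟩ := exists_abelian_normal hPs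
  haveI := hN
  haveI := hNc
  have hbij := hreg N hN hN0 hNc
  have hNX : Nat.card ↥N = Nat.card X := Nat.card_eq_of_bijective _ hbij
  -- non-trivial normal subgroups inside `N` are all of it
  have hmin : ∀ W : Subgroup P, W.Normal → W ≤ N → W ≠ ⊥ → W = N := fun W hW hle h0 => by
    have hc : IsMulCommutative ↥W := ⟨⟨fun x y => Subtype.ext
      (congrArg Subtype.val (mul_comm' (⟨(x : P), hle x.2⟩ : ↥N) ⟨y, hle y.2⟩) : _)⟩⟩
    exact Subgroup.eq_of_le_of_card_ge hle
      ((Nat.card_eq_of_bijective _ (hreg W hW h0 hc)).trans hNX.symm).ge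
  obtain ⟨p, hp, hpN⟩ :=
    Nat.exists_prime_and_dvd (fun h : Nat.card ↥N = 1 => hN0 ((Subgroup.card_eq_one).1 h))
  haveI : Fact p.Prime := ⟨hp⟩
  have hexp : ∀ a : ↥N, a ^ p = 1 := by
    let T : Subgroup P :=
      { carrier := {a | a ∈ N ∧ a ^ p = 1}
        one_mem' := ⟨N.one_mem, one_pow p⟩
        mul_mem' := fun {x y} hx hy => ⟨N.mul_mem hx.1 hy.1, by
          have hc : Commute x y :=
            congrArg Subtype.val (mul_comm' (⟨x, hx.1⟩ : ↥N) ⟨y, hy.1⟩)
          rw [hc.mul_pow, hx.2, hy.2, one_mul]⟩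
        inv_mem' := fun {x} hx => ⟨N.inv_mem hx.1, by rw [inv_pow, hx.2, inv_one]⟩ }
    obtain ⟨m, hm⟩ := exists_prime_orderOf_dvd_card' p hpN
    have hT : T = N := hmin T
      ⟨fun x hx g => ⟨hN.conj_mem x hx.1 g, by rw [conj_pow, hx.2, mul_one, mul_inv_cancel]⟩⟩
      (fun x hx => hx.1) fun h => by
        have : (m : P) ∈ T := ⟨m.2, by rw [← Subgroup.orderOf_coe] at hm; rw [← hm, pow_orderOf_eq_one]⟩
        rw [h, Subgroup.mem_bot] at this
        have h1 : m = 1 := Subtype.ext this
        rw [h1, orderOf_one] at hm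
        exact hp.ne_one hm.symm
    intro a
    exact Subtype.ext (show (a : P) ∈ T from hT.symm ▸ a.2).2
  have hp3 : p ≠ 3 := fun h => h3 (h ▸ hpN.trans (Subgroup.card_subgroup_dvd_card N))
  letI : CommGroup ↥N := { (inferInstance : Group ↥N) with mul_comm := fun a b => mul_comm' a b }
  let H := stabilizer P x₀
  letI : DistribMulAction ↥H (Additive ↥N) :=
    { smul := fun h a => Additive.ofMul (MulAut.conjNormal (h : P) a.toMul)
      one_smul := fun a => by
        show Additive.ofMul (MulAut.conjNormal (1 : P) a.toMul) = a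
        rw [map_one]; rfl
      mul_smul := fun g h a => by
        show Additive.ofMul (MulAut.conjNormal ((g : P) * (h : P)) a.toMul) = _
        rw [map_mul]; rfl
      smul_zero := fun h => by
        show Additive.ofMul (MulAut.conjNormal (h : P) (1 : ↥N)) = _
        rw [map_one]; rfl
      smul_add := fun h a c => by
        show Additive.ofMul (MulAut.conjNormal (h : P) (a.toMul * c.toMul)) = _
        rw [map_mul]; rfl }
  have hpt : ∀ (h : ↥H) (a : Additive ↥N),
      (((h • a).toMul : ↥N) : P) • x₀ = (h : P) • ((a.toMul : ↥N) : P) • x₀ := fun h a => by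
    show ((MulAut.conjNormal (h : P) a.toMul : ↥N) : P) • x₀ = _
    have hx : (h : P)⁻¹ • x₀ = x₀ := inv_smul_eq_iff.2 h.2.symm
    rw [MulAut.conjNormal_apply, mul_smul, mul_smul, hx]
  haveI : FaithfulSMul ↥H (Additive ↥N) := ⟨fun {g h} hgh => Subtype.ext
    (eq_of_smul_eq_smul fun x : X => by
      obtain ⟨a, rfl⟩ := hbij.2 x
      show (g : P) • (a : P) • x₀ = (h : P) • (a : P) • x₀
      have := hpt g (Additive.ofMul a)
      rw [hgh, hpt] at this
      exact this.symm)⟩
  have hirr : ∀ W : AddSubgroup (Additive ↥N), (∀ h : ↥H, ∀ a ∈ W, h • a ∈ W) →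
      W = ⊥ ∨ W = ⊤ := by
    intro W hW
    by_cases hW0 : W = ⊥
    · exact Or.inl hW0
    right
    let W' : Subgroup P := (AddSubgroup.toSubgroup' W).map N.subtype
    have hn : W'.Normal := ⟨by
      rintro _ ⟨a, ha, rfl⟩ g
      obtain ⟨c, hc⟩ := hbij.2 (g • x₀)
      have hu : (c : P)⁻¹ * g ∈ H := by
        show ((c : P)⁻¹ * g) • x₀ = x₀
        rw [mul_smul, inv_smul_eq_iff]; exact hc.symm
      refine ⟨((⟨_, hu⟩ : ↥H) • Additive.ofMul a).toMul, hW ⟨_, hu⟩ (Additive.ofMul a) ha, ?_⟩
      show ((MulAut.conjNormal ((c : P)⁻¹ * g) a : ↥N) : P) = g * (a : P) * g⁻¹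
      rw [MulAut.conjNormal_apply]
      have hcomm : (c : P) * (g * (a : P) * g⁻¹) = (g * (a : P) * g⁻¹) * c :=
        congrArg Subtype.val (mul_comm' c (⟨_, hN.conj_mem a a.2 g⟩ : ↥N))
      calc (c : P)⁻¹ * g * a * ((c : P)⁻¹ * g)⁻¹ = (c : P)⁻¹ * ((g * (a : P) * g⁻¹) * c) := by group
        _ = g * (a : P) * g⁻¹ := by rw [← hcomm, inv_mul_cancel_left]⟩
    have h0 : W' ≠ ⊥ := fun h => hW0 <| (AddSubgroup.eq_bot_iff_forall W).2 fun a ha => by
      have : ((a.toMul : ↥N) : P) ∈ W' := ⟨a.toMul, ha, rfl⟩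
      rw [h, Subgroup.mem_bot] at this
      exact congrArg Additive.ofMul (Subtype.ext this : a.toMul = 1)
    have hall := hmin W' hn (Subgroup.map_subtype_le _) h0
    refine eq_top_iff.2 fun a _ => ?_
    obtain ⟨c, hc, hca⟩ := (hall.symm ▸ (a.toMul).2 : ((a.toMul : ↥N) : P) ∈ W')
    have hca' : c = a.toMul := Subtype.ext hca
    rw [hca'] at hc
    exact hc
  obtain ⟨S, hS0, hS⟩ := exists_rigid (H := ↥H) (V := Additive ↥N) (p := p) inferInstance
    (fun h => h3 (h.trans (Subgroup.card_subgroup_dvd_card _))) hp3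
    (fun v => Additive.toMul.injective (by simpa using hexp v.toMul)) hirr
  let φ : ↥N ≃ X := Equiv.ofBijective _ hbij
  let b : X → Fin 3 := fun x =>
    if x = x₀ then 0 else if Additive.ofMul (φ.symm x) ∈ S then 1 else 2
  have hb0 : ∀ x, b x = 0 ↔ x = x₀ := fun x => by
    simp only [b]
    split_ifs with h1 h2 <;> simp [h1]
  have hb1 : ∀ a : Additive ↥N, b (((a.toMul : ↥N) : P) • x₀) = 1 ↔ a ∈ S := fun a => by
    simp only [b]
    by_cases ha : a = 0
    · subst ha
      simp [hS0]
    · have hne : ((a.toMul : ↥N) : P) • x₀ ≠ x₀ := fun h => ha (by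
        have : a.toMul = 1 := hbij.1 (h.trans (one_smul P x₀).symm)
        exact congrArg Additive.ofMul this)
      rw [if_neg hne, show φ.symm (((a.toMul : ↥N) : P) • x₀) = a.toMul from φ.symm_apply_apply _]
      simp
  refine hasCol_three_of_one h3 b fun g hg => ?_
  have hx0 : g • x₀ = x₀ := (hb0 _).1 ((hg x₀).trans ((hb0 x₀).2 rfl))
  have h1 : (⟨g, hx0⟩ : ↥H) = 1 := hS _ fun a => by
    rw [← hb1, ← hb1, hpt, hg]
  intro x
  rw [show g = 1 from congrArg Subtype.val h1, one_smul]

theorem colThree_aux (n : ℕ) : ∀ (G X : Type) [Group G] [Finite G] [MulAction G X] [Finite X]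
    [Nonempty X], Group.IsSolvable G → ¬ 3 ∣ Nat.card G → Nat.card X = n → HasCol 3 G X := by
  induction n using Nat.strong_induction_on with
  | _ n ih =>
    intro G X _ _ _ _ _ hs h3 hn
    classical
    by_cases htriv : ∀ (g : G) (x : X), g • x = x
    · refine ⟨fun i _ => i, fun _ g _ x => htriv g x, fun i j g h => h (Classical.arbitrary X)⟩
    have hfibre : ∀ {Y : Type} [MulAction G Y] [Finite Y] (π : X → Y),
        (∀ (g : G) x, π (g • x) = g • π x) → Function.Surjective π → 1 < Nat.card Y →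
        Nat.card Y < Nat.card X → HasCol 3 G X := by
      intro Y _ _ π hπ hsur hY1 hYX
      haveI : Nonempty Y := ⟨π (Classical.arbitrary X)⟩
      refine hasCol_of_blocks π hπ (ih _ (hn ▸ hYX) G Y hs h3 rfl) fun y => ?_
      let B : SubMulAction ↥(stabilizer G y) X :=
        ⟨{x | π x = y}, fun g x hx => by
          show π ((g : G) • x) = y
          rw [hπ, show π x = y from hx]; exact g.2⟩
      haveI : Nonempty ↥B := ⟨⟨(hsur y).choose, (hsur y).choose_spec⟩⟩
      have hlt : Nat.card ↥B < n := by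
        haveI : Nontrivial Y := Finite.one_lt_card_iff_nontrivial.1 hY1
        obtain ⟨y', hy'⟩ := exists_ne y
        obtain ⟨x', hx'⟩ := hsur y'
        exact hn ▸ Finite.card_subtype_lt (x := x') fun h => hy' (hx'.symm.trans h)
      haveI : Group.IsSolvable G := hs
      obtain ⟨e, he1, he2⟩ := ih _ hlt ↥(stabilizer G y) ↥B inferInstance
        (fun h => h3 (h.trans (Subgroup.card_subgroup_dvd_card _))) rfl
      refine ⟨fun i x => if h : π x = y then e i ⟨x, h⟩ else i, fun i g hg h x hx => ?_,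
        fun i j g hg h => he2 i j ⟨g, hg⟩ fun x => ?_⟩
      · refine congrArg Subtype.val (he1 i ⟨g, hg⟩ (fun z => ?_) ⟨x, hx⟩)
        have h1 := h z.1 z.2
        simp only [dif_pos (show π z.1 = y from z.2),
          dif_pos (show π (g • z.1) = y by rw [hπ, show π z.1 = y from z.2, hg])] at h1
        exact h1
      · have h1 := h x.1 x.2
        simp only [dif_pos (show π x.1 = y from x.2),
          dif_pos (show π (g • x.1) = y by rw [hπ, show π x.1 = y from x.2, hg])] at h1
        exact h1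
    by_cases htrans : IsPretransitive G X
    swap
    · obtain ⟨x, y, hxy⟩ : ∃ x y : X, ∀ g : G, g • x ≠ y := by
        by_contra h
        push Not at h
        exact htrans ⟨h⟩
      letI : MulAction G Bool :=
        { smul := fun _ b => b, one_smul := fun _ => rfl, mul_smul := fun _ _ _ => rfl }
      refine hfibre (fun z => decide (z ∈ orbit G x)) (fun g z => ?_) (fun b => ?_) (by simp) ?_
      · show decide (g • z ∈ orbit G x) = decide (z ∈ orbit G x)
        have : g • z ∈ orbit G x ↔ z ∈ orbit G x :=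
          ⟨fun h => by simpa using mem_orbit_of_mem_orbit g⁻¹ h, fun h => mem_orbit_of_mem_orbit g h⟩
        simp [this]
      · cases b
        · exact ⟨y, decide_eq_false fun ⟨g, hg⟩ => hxy g hg⟩
        · exact ⟨x, decide_eq_true (mem_orbit_self x)⟩
      · haveI := Fintype.ofFinite X
        rw [Nat.card_eq_fintype_card, Nat.card_eq_fintype_card, Fintype.card_bool]
        push Not at htriv
        obtain ⟨g, z, hgz⟩ := htriv
        refine Fintype.two_lt_card_iff.2 ?_
        by_cases hzx : z ∈ orbit G x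
        · exact ⟨z, g • z, y, hgz.symm, fun h => by
            obtain ⟨u, rfl⟩ := hzx
            exact hxy u h,
            fun h => by
            obtain ⟨u, rfl⟩ := hzx
            exact hxy (g * u) (by rw [mul_smul]; exact h)⟩
        · exact ⟨z, g • z, x, hgz.symm, fun h => hzx (by rw [h]; exact mem_orbit_self x), fun h =>
            hzx (by
              have h1 : z = g⁻¹ • x := by rw [← h, inv_smul_smul]
              rw [h1]; exact mem_orbit x g⁻¹)⟩
    haveI := htrans
    let x₀ : X := Classical.arbitrary X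
    set H := stabilizer G x₀ with hH
    have hHidx : H.index = Nat.card X := index_stabilizer_of_transitive G x₀
    haveI : H.FiniteIndex := ⟨by rw [hHidx]; exact Nat.card_pos.ne'⟩
    by_cases hmax : ∀ M : Subgroup G, H < M → M = ⊤
    swap
    · push Not at hmax
      obtain ⟨M, hHM, hM⟩ := hmax
      haveI : M.FiniteIndex := Subgroup.finiteIndex_of_le hHM.le
      choose rep hrep using fun x => exists_smul_eq G x₀ x
      refine hfibre (Y := G ⧸ M) (fun x => (rep x : G ⧸ M)) (fun g x => ?_) (fun y => ?_) ?_ ?_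
      · rw [MulAction.Quotient.smul_mk, QuotientGroup.eq]
        refine hHM.le ?_
        rw [hH, mem_stabilizer_iff, mul_smul, inv_smul_eq_iff, hrep, smul_eq_mul, mul_smul, hrep]
      · obtain ⟨g, rfl⟩ := QuotientGroup.mk_surjective y
        refine ⟨g • x₀, QuotientGroup.eq.2 (hHM.le ?_)⟩
        rw [hH, mem_stabilizer_iff, mul_smul, inv_smul_eq_iff, hrep]
      · exact Subgroup.one_lt_index_of_ne_top hM
      · rw [← hHidx]
        exact Subgroup.index_strictAnti hHM
    -- the primitive case: pass to the permutation group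
    let P : Subgroup (Equiv.Perm X) := (MulAction.toPermHom G X).range
    suffices hP : HasCol 3 ↥P X by
      obtain ⟨f, hf1, hf2⟩ := hP
      exact ⟨f, fun i g h => hf1 i ⟨MulAction.toPermHom G X g, ⟨g, rfl⟩⟩ h,
        fun i j g h => hf2 i j ⟨MulAction.toPermHom G X g, ⟨g, rfl⟩⟩ h⟩
    haveI : Group.IsSolvable G := hs
    have hPs : Group.IsSolvable ↥P :=
      Group.isSolvable_of_surjective (MulAction.toPermHom G X).rangeRestrict_surjective
    haveI : Nontrivial ↥P := by
      push Not at htriv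
      obtain ⟨g, z, hgz⟩ := htriv
      exact ⟨⟨MulAction.toPermHom G X g, ⟨g, rfl⟩⟩, 1, fun h => hgz (by
        have := congrArg (fun u : ↥P => (u : Equiv.Perm X) z) h
        simpa using this)⟩
    have h3P : ¬ 3 ∣ Nat.card ↥P := fun h =>
      h3 (h.trans (Subgroup.card_range_dvd _))
    have hreg : ∀ N : Subgroup ↥P, N.Normal → N ≠ ⊥ → IsMulCommutative ↥N →
        Function.Bijective fun a : ↥N => (a : ↥P) • x₀ := by
     intro N hN hN0 hNc
     haveI := hN
     haveI := hNc
     have hNH : ¬ ∀ a ∈ N, a • x₀ = x₀ := by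
       intro hle
       refine hN0 ((Subgroup.eq_bot_iff_forall _).2 fun a ha => eq_of_smul_eq_smul fun x : X => ?_)
       obtain ⟨u, rfl⟩ := exists_smul_eq G x₀ x
       let p : ↥P := ⟨MulAction.toPermHom G X u, ⟨u, rfl⟩⟩
       have h1 := hle _ (by simpa using hN.conj_mem a ha p⁻¹ : p⁻¹ * a * p ∈ N)
       rw [mul_smul, mul_smul, inv_smul_eq_iff] at h1
       rw [one_smul]
       exact h1
     -- the preimage of `N` is transitive
     let M : Subgroup G :=
       { carrier := {u | ∃ a ∈ N, u • x₀ = a • x₀}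
         one_mem' := ⟨1, N.one_mem, by simp⟩
         mul_mem' := by
           rintro u w ⟨a, ha, hua⟩ ⟨b, hb, hwb⟩
           let p : ↥P := ⟨MulAction.toPermHom G X u, ⟨u, rfl⟩⟩
           refine ⟨(p * b * p⁻¹) * a, N.mul_mem (hN.conj_mem b hb p) ha, ?_⟩
           rw [mul_smul, hwb, mul_smul, ← hua, mul_smul, mul_smul]
           show p • b • x₀ = p • b • p⁻¹ • p • x₀
           rw [inv_smul_smul]
         inv_mem' := by
           rintro u ⟨a, ha, hua⟩
           let p : ↥P := ⟨MulAction.toPermHom G X u, ⟨u, rfl⟩⟩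
           refine ⟨p⁻¹ * a⁻¹ * p, by simpa using hN.conj_mem a⁻¹ (N.inv_mem ha) p⁻¹, ?_⟩
           rw [mul_smul, mul_smul]
           show p⁻¹ • x₀ = p⁻¹ • a⁻¹ • p • x₀
           rw [show p • x₀ = a • x₀ from hua, inv_smul_smul] }
     have hHM : H ≤ M := fun u hu => ⟨1, N.one_mem, by rw [one_smul]; exact hu⟩
     have hMtop : M = ⊤ := hmax M (lt_of_le_of_ne hHM fun h => hNH fun a ha => by
       obtain ⟨u, hu⟩ := a.2
       have hm : u ∈ M := ⟨a, ha, by rw [show a = ⟨_, ⟨u, rfl⟩⟩ from Subtype.ext hu.symm]; rfl⟩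
       rw [← h] at hm
       show (a : Equiv.Perm X) x₀ = x₀
       rw [← hu]
       exact hm)
     have hbij : Function.Bijective fun a : ↥N => (a : ↥P) • x₀ := by
       have hsur : ∀ x : X, ∃ a ∈ N, a • x₀ = x := fun x => by
         obtain ⟨u, rfl⟩ := exists_smul_eq G x₀ x
         obtain ⟨a, ha, h⟩ := (hMtop ▸ Subgroup.mem_top u : u ∈ M)
         exact ⟨a, ha, h.symm⟩
       refine ⟨fun a b hab => Subtype.ext (eq_of_smul_eq_smul fun x : X => ?_), fun x => ?_⟩
       · obtain ⟨c, hc, rfl⟩ := hsur x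
         have hac := congrArg Subtype.val (mul_comm' a (⟨c, hc⟩ : ↥N))
         have hbc := congrArg Subtype.val (mul_comm' b (⟨c, hc⟩ : ↥N))
         simp only [Subgroup.coe_mul] at hac hbc
         rw [← mul_smul, hac, ← mul_smul, hbc, mul_smul, mul_smul]
         exact congrArg (c • ·) hab
       · obtain ⟨a, ha, h⟩ := hsur x
         exact ⟨⟨a, ha⟩, h⟩
     exact hbij
    haveI : FaithfulSMul ↥P X := inferInstance
    exact hasCol_affine_three x₀ hPs h3P hreg

/-- Three colours suffice for solvable groups of order prime to three. -/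
theorem colThree : ∀ (G Ω : Type) [Group G] [Finite G] [MulAction G Ω] [Finite Ω] [Nonempty Ω],
    Group.IsSolvable G → ¬ 3 ∣ Nat.card G → HasCol 3 G Ω :=
  fun G Ω _ _ _ _ _ hs h3 => colThree_aux _ G Ω hs h3 rfl

end H89.ColThree
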